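import Mathlib.Algebra.Group.Subgroup.Basic
import Mathlib.GroupTheory.Perm.Basic
import Mathlib.Tactic.Abel
import Mathlib.Tactic.FinCases
import Mathlib.Data.Fin.VecNotation
import Mathlib.Data.Fintype.EquivFin
import Mathlib.Algebra.Group.Commute.Basic
import Mathlib.Data.Nat.Bitwise
import Mathlib.Tactic.Group
import Mathlib.GroupTheory.QuotientGroup.Basic
import Mathlib.Algebra.Group.Subgroup.Map

-- merged: Cfsg.Agent.Omega.NOne.AG.FiveMod
section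

/-!
# THEOREM D0ag (#15001), section (5): the module `T₀ / Δ` for `S₅`

`M` an elementary abelian 2-group (additive), `N a b c d` = `M_{ab|cd}` (15 subgroups), `X a b` = the action of
the transposition `(ab)`.  Results, with `N2 a b c d e` = the intersection `M_ab` of the `M_k`, `ab ∈ k`:
`dec` : `M_{ab|cd} = M_ab + M_cd`; `surj` : `M_ab = [M_be, (ab)]`; `inj` : `(ab)` has no fixed points on `M_bc`.
-/

set_option autoImplicit false

namespace Cfsg.Agent.Omega.NOne.AG.FiveMod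

open Equiv

/-- four different indices -/
def D4 (a b c d : Fin 5) : Prop := a ≠ b ∧ a ≠ c ∧ a ≠ d ∧ b ≠ c ∧ b ≠ d ∧ c ≠ d

instance (a b c d : Fin 5) : Decidable (D4 a b c d) := by unfold D4; infer_instance

/-- five different indices -/
def D5 (a b c d e : Fin 5) : Prop := D4 a b c d ∧ a ≠ e ∧ b ≠ e ∧ c ≠ e ∧ d ≠ e

instance (a b c d e : Fin 5) : Decidable (D5 a b c d e) := by unfold D5; infer_instance

theorem D4.map {a b c d : Fin 5} (h : D4 a b c d) (π : Perm (Fin 5)) : D4 (π a) (π b) (π c) (π d) := by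
  obtain ⟨h1, h2, h3, h4, h5, h6⟩ := h
  refine ⟨?_, ?_, ?_, ?_, ?_, ?_⟩ <;> exact fun e => by simp_all

theorem D5.map {a b c d e : Fin 5} (h : D5 a b c d e) (π : Perm (Fin 5)) :
    D5 (π a) (π b) (π c) (π d) (π e) := by
  obtain ⟨h0, h1, h2, h3, h4⟩ := h
  refine ⟨h0.map π, ?_, ?_, ?_, ?_⟩ <;> exact fun e => by simp_all

/-- The module data. -/
structure MS (M : Type*) [AddCommGroup M] (N : Fin 5 → Fin 5 → Fin 5 → Fin 5 → AddSubgroup M)
    (X : Fin 5 → Fin 5 → M →+ M) : Prop where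
  two : ∀ m : M, m + m = 0
  sw1 : ∀ a b c d, D4 a b c d → N b a c d = N a b c d
  sw2 : ∀ a b c d, D4 a b c d → N c d a b = N a b c d
  xs : ∀ a b, a ≠ b → X b a = X a b
  xN : ∀ a b p q r s, a ≠ b → D4 p q r s → ∀ m ∈ N p q r s,
    X a b m ∈ N (swap a b p) (swap a b q) (swap a b r) (swap a b s)
  mem : ∀ a b c d, D4 a b c d → ∀ m, m + X a b m ∈ N a b c d
  fix : ∀ a b c d, D4 a b c d → ∀ m ∈ N a b c d, X a b m = m
  gen : ∀ a b c d e, D5 a b c d e → ∀ m, ∃ u ∈ N a b c d, ∃ v ∈ N b c d e, m = u + v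
  dis : ∀ a b c d e, D5 a b c d e → ∀ m ∈ N a b c d, m ∈ N b c d e → m = 0

namespace MS

variable {M : Type*} [AddCommGroup M] {N : Fin 5 → Fin 5 → Fin 5 → Fin 5 → AddSubgroup M}
  {X : Fin 5 → Fin 5 → M →+ M}

/-- Relabelling. -/
theorem relabel (h : MS M N X) (π : Perm (Fin 5)) :
    MS M (fun a b c d => N (π a) (π b) (π c) (π d)) (fun a b => X (π a) (π b)) where
  two := h.two
  sw1 := fun a b c d hd => h.sw1 _ _ _ _ (hd.map π)
  sw2 := fun a b c d hd => h.sw2 _ _ _ _ (hd.map π)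
  xs := fun a b hab => h.xs _ _ (fun e => hab (π.injective e))
  xN := fun a b p q r s hab hd m hm => by
    have h1 := h.xN (π a) (π b) _ _ _ _ (fun e => hab (π.injective e)) (hd.map π) m hm
    have h2 : ∀ x, swap (π a) (π b) (π x) = π (swap a b x) := fun x => by
      have := congrArg (fun f : Perm (Fin 5) => f (π x)) (Equiv.swap_apply_apply π a b)
      simpa using this
    simpa only [h2] using h1
  mem := fun a b c d hd => h.mem _ _ _ _ (hd.map π)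
  fix := fun a b c d hd => h.fix _ _ _ _ (hd.map π)
  gen := fun a b c d e hd => h.gen _ _ _ _ _ (hd.map π)
  dis := fun a b c d e hd => h.dis _ _ _ _ _ (hd.map π)

variable (h : MS M N X)
include h

/-- `x` lies in the three `M_k` with `ab ∈ k`; `c`, `d`, `e` the other indices. -/
def N2 (N : Fin 5 → Fin 5 → Fin 5 → Fin 5 → AddSubgroup M) (a b c d e : Fin 5) : AddSubgroup M :=
  N a b c d ⊓ N a b c e ⊓ N a b d e

omit h in
theorem mem_N2 {a b c d e : Fin 5} {m : M} :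
    m ∈ N2 N a b c d e ↔ (m ∈ N a b c d ∧ m ∈ N a b c e) ∧ m ∈ N a b d e := Iff.rfl

theorem eq_of_add {x y : M} (e : x + y = 0) : x = y := by
  calc x = x + y + y := by rw [add_assoc, h.two, add_zero]
    _ = y := by rw [e, zero_add]

theorem mem2 {a b c d e : Fin 5} (hd : D5 a b c d e) (m : M) : m + X a b m ∈ N2 N a b c d e := by
  obtain ⟨⟨h1, h2, h3, h4, h5, h6⟩, h7, h8, h9, h10⟩ := hd
  exact ⟨⟨h.mem _ _ _ _ ⟨h1, h2, h3, h4, h5, h6⟩ m, h.mem _ _ _ _ ⟨h1, h2, h7, h4, h8, h9⟩ m⟩,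
    h.mem _ _ _ _ ⟨h1, h3, h7, h5, h8, h10⟩ m⟩

/-- the action on a point, with the new labels -/
theorem xN' {a b p q r s p' q' r' s' : Fin 5} (hab : a ≠ b) (hd : D4 p q r s) {m : M} (hm : m ∈ N p q r s)
    (e1 : swap a b p = p') (e2 : swap a b q = q') (e3 : swap a b r = r') (e4 : swap a b s = s') :
    X a b m ∈ N p' q' r' s' := by
  subst e1 e2 e3 e4
  exact h.xN a b p q r s hab hd m hm

theorem s1 {a b c d : Fin 5} (hd : D4 a b c d) {m : M} (hm : m ∈ N a b c d) : m ∈ N b a c d := by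
  rwa [h.sw1 a b c d hd]

theorem s2 {a b c d : Fin 5} (hd : D4 a b c d) {m : M} (hm : m ∈ N a b c d) : m ∈ N c d a b := by
  rwa [h.sw2 a b c d hd]

/-- the kernel of `(01) - 1` on `M_12` -/
theorem inj0 {m : M} (hm : m ∈ N2 N 1 2 0 3 4) (hx : X 0 1 m = m) : m = 0 := by
  obtain ⟨⟨h1, h2⟩, h3⟩ := hm
  -- `12|03` and `(01)` of `12|04`, i.e. `02|14`
  have h4 : m ∈ N 0 2 1 4 := by
    have := h.xN' (a := 0) (b := 1) (p' := 0) (q' := 2) (r' := 1) (s' := 4) (by decide) (by decide) h2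
      (by decide) (by decide) (by decide) (by decide)
    rwa [hx] at this
  refine h.dis 3 0 2 1 4 (by decide) m ?_ h4
  exact h.s1 (by decide) (h.s2 (by decide) (h.s1 (by decide) h1))

/-- `M_{01|23}` : the decomposition together with its origin -/
theorem dec_aux {m : M} (hm : m ∈ N 0 1 2 3) :
    ∃ α ∈ N 1 4 0 2, m = (X 2 3 α + X 0 1 (X 2 3 α)) + (α + X 2 3 α) := by
  obtain ⟨α, hα, β, hβ, rfl⟩ := h.gen 2 0 4 1 3 (by decide) m
  have e1 : X 2 3 (α + β) = α + β := h.fix 2 3 0 1 (by decide) _ (h.s2 (by decide) hm)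
  have e2 : X 0 1 (α + β) = α + β := h.fix 0 1 2 3 (by decide) _ hm
  have e3 : X 0 1 (X 2 3 α) + X 0 1 (X 2 3 β) = α + β := by
    rw [← map_add, ← map_add, e1, e2]
  -- `X α ∈ N_{j'}`, `X β ∈ N_j`
  have hXα : X 0 1 (X 2 3 α) ∈ N 0 4 1 3 := by
    have a1 := h.xN' (a := 2) (b := 3) (p' := 3) (q' := 0) (r' := 4) (s' := 1) (by decide) (by decide) hα
      (by decide) (by decide) (by decide) (by decide)
    have a2 := h.xN' (a := 0) (b := 1) (p' := 3) (q' := 1) (r' := 4) (s' := 0) (by decide) (by decide) a1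
      (by decide) (by decide) (by decide) (by decide)
    exact h.s1 (by decide) (h.s2 (by decide) (h.s1 (by decide) a2))
  have hXβ : X 0 1 (X 2 3 β) ∈ N 2 0 4 1 := by
    have a1 := h.xN' (a := 2) (b := 3) (p' := 0) (q' := 4) (r' := 1) (s' := 2) (by decide) (by decide) hβ
      (by decide) (by decide) (by decide) (by decide)
    have a2 := h.xN' (a := 0) (b := 1) (p' := 1) (q' := 4) (r' := 0) (s' := 2) (by decide) (by decide) a1
      (by decide) (by decide) (by decide) (by decide)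
    exact h.s1 (by decide) (h.s2 (by decide) (h.s1 (by decide) a2))
  have e4 : α + X 0 1 (X 2 3 β) = β + X 0 1 (X 2 3 α) := by
    apply h.eq_of_add
    have t1 := h.two α
    have t2 := h.two β
    calc α + X 0 1 (X 2 3 β) + (β + X 0 1 (X 2 3 α))
        = (α + β) + (X 0 1 (X 2 3 α) + X 0 1 (X 2 3 β)) := by abel
      _ = (α + α) + (β + β) := by rw [e3]; abel
      _ = 0 := by rw [t1, t2, add_zero]
  have e5 : β + X 0 1 (X 2 3 α) = 0 := by
    refine h.dis 2 0 4 1 3 (by decide) _ ?_ (add_mem hβ hXα)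
    rw [← e4]
    exact add_mem hα hXβ
  have e6 : β = X 0 1 (X 2 3 α) := h.eq_of_add e5
  refine ⟨α, h.s1 (by decide) (h.s2 (by decide) (h.s1 (by decide) hα)), ?_⟩
  rw [e6]
  calc α + X 0 1 (X 2 3 α) = α + X 0 1 (X 2 3 α) + (X 2 3 α + X 2 3 α) := by rw [h.two, add_zero]
    _ = _ := by abel

theorem dec0 {m : M} (hm : m ∈ N 0 1 2 3) : ∃ u ∈ N2 N 0 1 2 3 4, ∃ v ∈ N2 N 2 3 0 1 4, m = u + v := by
  obtain ⟨α, -, e⟩ := h.dec_aux hm
  exact ⟨_, h.mem2 (by decide) _, _, h.mem2 (by decide) _, e⟩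

theorem surj0 {m : M} (hm : m ∈ N2 N 0 1 2 3 4) : ∃ α ∈ N2 N 1 4 0 2 3, m = α + X 0 1 α := by
  obtain ⟨α, hα, e⟩ := h.dec_aux hm.1.1
  have hu : X 2 3 α + X 0 1 (X 2 3 α) ∈ N2 N 0 1 2 3 4 := h.mem2 (by decide) _
  have hv : α + X 2 3 α ∈ N2 N 2 3 0 1 4 := h.mem2 (by decide) _
  have hv' : α + X 2 3 α ∈ N2 N 0 1 2 3 4 := by
    have e1 : α + X 2 3 α = m + (X 2 3 α + X 0 1 (X 2 3 α)) := by
      rw [e]
      calc α + X 2 3 α = α + X 2 3 α + (X 2 3 α + X 2 3 α) + (X 0 1 (X 2 3 α) + X 0 1 (X 2 3 α)) := by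
            rw [h.two, h.two, add_zero, add_zero]
        _ = _ := by abel
    rw [e1]
    exact add_mem hm hu
  have h0 : α + X 2 3 α = 0 := by
    refine h.dis 1 0 4 2 3 (by decide) _ (h.s1 (by decide) ?_) ?_
    · -- `01|42`
      have := hv'.1.2
      exact h.s2 (by decide) (h.s1 (by decide) (h.s2 (by decide) this))
    · have := hv.1.2
      exact h.s2 (by decide) this
  have e1 : X 2 3 α = α := (h.eq_of_add h0).symm
  have m1 : α ∈ N 1 4 0 3 := by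
    have := h.xN' (a := 2) (b := 3) (p' := 1) (q' := 4) (r' := 0) (s' := 3) (by decide) (by decide) hα
      (by decide) (by decide) (by decide) (by decide)
    rwa [e1] at this
  have m2 : α ∈ N 1 4 2 3 := by
    have e2 : X 0 2 α = α := h.fix 0 2 1 4 (by decide) _ (h.s2 (by decide) hα)
    have := h.xN' (a := 0) (b := 2) (p' := 1) (q' := 4) (r' := 2) (s' := 3) (by decide) (by decide) m1
      (by decide) (by decide) (by decide) (by decide)
    rwa [e2] at this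
  refine ⟨α, ⟨⟨hα, m1⟩, m2⟩, ?_⟩
  rw [e, e1, h.two, add_zero]

end MS

/-! ### Label-free forms -/

theorem exists_five {a b c d : Fin 5} (h : D4 a b c d) : ∃ e, D5 a b c d e := by
  revert a b c d; decide

theorem exists_five' {a b c : Fin 5} (h1 : a ≠ b) (h2 : a ≠ c) (h3 : b ≠ c) : ∃ d e, D5 a b d e c := by
  revert a b c; decide

theorem exists_perm {a b c d e : Fin 5} (h : D5 a b c d e) :
    ∃ π : Perm (Fin 5), π 0 = a ∧ π 1 = b ∧ π 2 = c ∧ π 3 = d ∧ π 4 = e := by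
  obtain ⟨⟨h1, h2, h3, h4, h5, h6⟩, h7, h8, h9, h10⟩ := h
  have hinj : Function.Injective ![a, b, c, d, e] := by
    intro i j hij
    fin_cases i <;> fin_cases j <;> simp_all
  exact ⟨Equiv.ofBijective _ (Finite.injective_iff_bijective.1 hinj), rfl, rfl, rfl, rfl, rfl⟩

namespace MS

variable {M : Type*} [AddCommGroup M] {N : Fin 5 → Fin 5 → Fin 5 → Fin 5 → AddSubgroup M}
  {X : Fin 5 → Fin 5 → M →+ M}

/-- `m ∈ M_ab` -/
def In2 (N : Fin 5 → Fin 5 → Fin 5 → Fin 5 → AddSubgroup M) (a b : Fin 5) (m : M) : Prop :=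
  ∀ c d, D4 a b c d → m ∈ N a b c d

variable (h : MS M N X)
include h

theorem in2_iff {a b c d e : Fin 5} (hd : D5 a b c d e) {m : M} : In2 N a b m ↔ m ∈ N2 N a b c d e := by
  constructor
  · intro hm
    obtain ⟨⟨h1, h2, h3, h4, h5, h6⟩, h7, h8, h9, h10⟩ := hd
    exact ⟨⟨hm _ _ ⟨h1, h2, h3, h4, h5, h6⟩, hm _ _ ⟨h1, h2, h7, h4, h8, h9⟩⟩,
      hm _ _ ⟨h1, h3, h7, h5, h8, h10⟩⟩
  · rintro ⟨⟨m1, m2⟩, m3⟩ c' d' hd'
    have sw : ∀ {c d : Fin 5}, D4 a b c d → m ∈ N a b c d → m ∈ N a b d c := by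
      intro c d hcd hm
      have h1 : D4 c d a b := by
        obtain ⟨q1, q2, q3, q4, q5, q6⟩ := hcd
        exact ⟨q6, q2.symm, q4.symm, q3.symm, q5.symm, q1⟩
      have h2 : D4 d c a b := by
        obtain ⟨q1, q2, q3, q4, q5, q6⟩ := h1
        exact ⟨q1.symm, q4, q5, q2, q3, q6⟩
      exact h.s2 h2 (h.s1 h1 (h.s2 hcd hm))
    obtain ⟨π, rfl, rfl, rfl, rfl, rfl⟩ := exists_perm hd
    obtain ⟨x, rfl⟩ := π.surjective c'
    obtain ⟨y, rfl⟩ := π.surjective d'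
    have hxy : D4 0 1 x y := by
      have := hd'.map π.symm
      simpa using this
    have key : ∀ x y : Fin 5, D4 0 1 x y → (x = 2 ∧ y = 3) ∨ (x = 3 ∧ y = 2) ∨ (x = 2 ∧ y = 4) ∨
        (x = 4 ∧ y = 2) ∨ (x = 3 ∧ y = 4) ∨ (x = 4 ∧ y = 3) := by decide
    rcases key x y hxy with ⟨rfl, rfl⟩ | ⟨rfl, rfl⟩ | ⟨rfl, rfl⟩ | ⟨rfl, rfl⟩ | ⟨rfl, rfl⟩ | ⟨rfl, rfl⟩
    · exact m1
    · exact sw ((show D4 0 1 2 3 by decide).map π) m1
    · exact m2
    · exact sw ((show D4 0 1 2 4 by decide).map π) m2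
    · exact m3
    · exact sw ((show D4 0 1 3 4 by decide).map π) m3

omit h in
theorem in2_add {a b : Fin 5} {m m' : M} (h1 : In2 N a b m) (h2 : In2 N a b m') : In2 N a b (m + m') :=
  fun c d hd => add_mem (h1 c d hd) (h2 c d hd)

/-- `[M, (ab)] ≤ M_ab` -/
theorem in2_mem {a b : Fin 5} (m : M) : In2 N a b (m + X a b m) := fun c d hd => h.mem a b c d hd m

/-- **(5.2)**: `(ab)` has no fixed points on `M_bc`. -/
theorem inj {a b c : Fin 5} (hab : a ≠ b) (hac : a ≠ c) (hbc : b ≠ c) {m : M} (hm : In2 N b c m)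
    (hx : X a b m = m) : m = 0 := by
  obtain ⟨d, e, hd⟩ := exists_five' hab hac hbc
  have hd' : D5 a b c d e := by
    obtain ⟨⟨h1, h2, h3, h4, h5, h6⟩, h7, h8, h9, h10⟩ := hd
    exact ⟨⟨h1, h7, h2, h8, h4, h9.symm⟩, h3, h5, h10.symm, h6⟩
  obtain ⟨π, rfl, rfl, rfl, rfl, rfl⟩ := exists_perm hd'
  refine (h.relabel π).inj0 ?_ hx
  refine ⟨⟨hm _ _ ?_, hm _ _ ?_⟩, hm _ _ ?_⟩
  · exact (show D4 1 2 0 3 by decide).map π
  · exact (show D4 1 2 0 4 by decide).map π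
  · exact (show D4 1 2 3 4 by decide).map π

/-- **(5.2)**: `M_{ab|cd} = M_ab + M_cd`. -/
theorem dec {a b c d : Fin 5} (hd : D4 a b c d) {m : M} (hm : m ∈ N a b c d) :
    ∃ u v, In2 N a b u ∧ In2 N c d v ∧ m = u + v := by
  obtain ⟨e, he⟩ := exists_five hd
  obtain ⟨π, rfl, rfl, rfl, rfl, rfl⟩ := exists_perm he
  obtain ⟨u, hu, v, hv, e⟩ := (h.relabel π).dec0 hm
  refine ⟨u, v, (h.in2_iff ((show D5 0 1 2 3 4 by decide).map π)).2 hu,
    (h.in2_iff ((show D5 2 3 0 1 4 by decide).map π)).2 hv, e⟩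

/-- **(5.2)**: `M_ab = [M_bc, (ab)]`. -/
theorem surj {a b c : Fin 5} (hab : a ≠ b) (hac : a ≠ c) (hbc : b ≠ c) {m : M} (hm : In2 N a b m) :
    ∃ α, In2 N b c α ∧ m = α + X a b α := by
  obtain ⟨d, e, hd⟩ := exists_five' hab hac hbc
  obtain ⟨π, rfl, rfl, rfl, rfl, rfl⟩ := exists_perm hd
  obtain ⟨α, hα, e⟩ := (h.relabel π).surj0 ((h.in2_iff hd).1 hm)
  exact ⟨α, (h.in2_iff ((show D5 1 4 0 2 3 by decide).map π)).2 hα, e⟩

/-- If `M ≠ 0`, then `M_ab ≠ 0` for all `a ≠ b`. -/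
theorem exists_ne {m : M} (hm : m ≠ 0) : ∃ m', In2 N 3 4 m' ∧ m' ≠ 0 := by
  by_contra hcon
  push Not at hcon
  have step : ∀ a b c : Fin 5, a ≠ b → a ≠ c → b ≠ c → (∀ m', In2 N b c m' → m' = 0) →
      ∀ m', In2 N a b m' → m' = 0 := by
    intro a b c hab hac hbc h0 m' hm'
    obtain ⟨α, hα, rfl⟩ := h.surj hab hac hbc hm'
    rw [h0 α hα, map_zero, add_zero]
  have z34 : ∀ m', In2 N 3 4 m' → m' = 0 := hcon
  have z23 := step 2 3 4 (by decide) (by decide) (by decide) z34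
  have z12 := step 1 2 3 (by decide) (by decide) (by decide) z23
  have z01 := step 0 1 2 (by decide) (by decide) (by decide) z12
  obtain ⟨u, hu, v, hv, rfl⟩ := h.gen 0 1 2 3 4 (by decide) m
  obtain ⟨u1, u2, a1, a2, rfl⟩ := h.dec (by decide) hu
  obtain ⟨v1, v2, b1, b2, rfl⟩ := h.dec (by decide) hv
  apply hm
  rw [z01 _ a1, z23 _ a2, z12 _ b1, z34 _ b2]
  simp

end MS

end Cfsg.Agent.Omega.NOne.AG.FiveMod

end

-- merged: Cfsg.Agent.Omega.NOne.AG.FiveDl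
section

/-!
# THEOREM D0ag (#15001), section (5): the group `Δ = ⟨y_ab⟩` of order 32

`Ys y` : the ten commuting involutions `y a b` with `y_ab y_bc y_ac = y_de`.  `ph y w` (`w < 32`): the elements of
`Δ` by their coordinates (`y 0 1`, `y 1 2`, `y 2 3`, `y 3 4`, `y 0 4`); everything about `Δ` is decided there.
-/

set_option autoImplicit false

namespace Cfsg.Agent.Omega.NOne.AG.FiveDl

open Equiv Subgroup
open Cfsg.Agent.Omega.NOne.AG.FiveMod

/-- The code of `y a b`. -/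
def Yt (a b : Fin 5) : ℕ :=
  (![![0, 1, 11, 26, 16], ![1, 0, 2, 22, 21], ![11, 2, 0, 4, 13], ![26, 22, 4, 0, 8],
    ![16, 21, 13, 8, 0]] : Fin 5 → Fin 5 → ℕ) a b

/-- The action of a permutation on the codes. -/
def ac (σ : Perm (Fin 5)) (w : ℕ) : ℕ :=
  (bif w.testBit 0 then Yt (σ 0) (σ 1) else 0) ^^^ (bif w.testBit 1 then Yt (σ 1) (σ 2) else 0) ^^^
  (bif w.testBit 2 then Yt (σ 2) (σ 3) else 0) ^^^ (bif w.testBit 3 then Yt (σ 3) (σ 4) else 0) ^^^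
  (bif w.testBit 4 then Yt (σ 0) (σ 4) else 0)

variable {G : Type*} [Group G]

/-- Ten involutions `y a b` with the relations of `Δ`. -/
structure Ys (y : Fin 5 → Fin 5 → G) : Prop where
  sym : ∀ a b, y a b = y b a
  sq : ∀ a b, a ≠ b → y a b * y a b = 1
  comm : ∀ a b c d, a ≠ b → c ≠ d → y a b * y c d = y c d * y a b
  rel : ∀ a b c d e, D5 a b c d e → y a b * y b c * y a c = y d e
  zne : ∀ a b c d, D4 a b c d → y a b * y c d ≠ 1

/-- `x` induces `σ` on the `y a b`. -/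
def Ov (y : Fin 5 → Fin 5 → G) (x : G) (σ : Perm (Fin 5)) : Prop :=
  ∀ a b, a ≠ b → x * y a b * x⁻¹ = y (σ a) (σ b)

theorem Ov.mul {y : Fin 5 → Fin 5 → G} {x x' : G} {σ σ' : Perm (Fin 5)} (h : Ov y x σ) (h' : Ov y x' σ') :
    Ov y (x * x') (σ * σ') := by
  intro a b hab
  calc x * x' * y a b * (x * x')⁻¹ = x * (x' * y a b * x'⁻¹) * x⁻¹ := by group
    _ = y (σ (σ' a)) (σ (σ' b)) := by rw [h' a b hab, h _ _ (fun e => hab (σ'.injective e))]

theorem Ov.inv {y : Fin 5 → Fin 5 → G} {x : G} {σ : Perm (Fin 5)} (h : Ov y x σ) : Ov y x⁻¹ σ⁻¹ := by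
  intro a b hab
  have h1 := h (σ⁻¹ a) (σ⁻¹ b) (fun e => hab (σ⁻¹.injective e))
  have e1 : ∀ c, σ (σ⁻¹ c) = c := fun c => by simp
  rw [e1, e1] at h1
  rw [← h1]
  group

theorem Ov.one (y : Fin 5 → Fin 5 → G) : Ov y 1 1 := fun a b _ => by simp

/-- `g` or `1` -/
def pw (b : Bool) (g : G) : G := bif b then g else 1

theorem pw_mul (b b' : Bool) {g : G} (hg : g * g = 1) : pw b g * pw b' g = pw (b ^^ b') g := by
  cases b <;> cases b' <;> simp [pw, hg]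

theorem pw_comm (b b' : Bool) {g g' : G} (h : g * g' = g' * g) : Commute (pw b g) (pw b' g') := by
  cases b <;> cases b'
  · exact Commute.one_left _
  · exact Commute.one_left _
  · exact Commute.one_right _
  · exact h

/-- The element with the code `w`. -/
def ph (y : Fin 5 → Fin 5 → G) (w : ℕ) : G :=
  pw (w.testBit 0) (y 0 1) * pw (w.testBit 1) (y 1 2) * pw (w.testBit 2) (y 2 3) *
    pw (w.testBit 3) (y 3 4) * pw (w.testBit 4) (y 0 4)

variable {y : Fin 5 → Fin 5 → G}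

theorem ph_zero : ph y 0 = 1 := by simp [ph, pw]

theorem Ys.mul (h : Ys y) (w w' : ℕ) : ph y w * ph y w' = ph y (w ^^^ w') := by
  have c : ∀ a b c d (s t : Bool), a ≠ b → c ≠ d → Commute (pw s (y a b)) (pw t (y c d)) :=
    fun a b c d s t h1 h2 => pw_comm s t (h.comm a b c d h1 h2)
  unfold ph
  rw [Commute.mul_mul_mul_comm (b := pw (w.testBit 4) (y 0 4))
      (Commute.mul_right (Commute.mul_right (Commute.mul_right
        (c 0 4 0 1 _ _ (by decide) (by decide)) (c 0 4 1 2 _ _ (by decide) (by decide)))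
        (c 0 4 2 3 _ _ (by decide) (by decide))) (c 0 4 3 4 _ _ (by decide) (by decide))),
    Commute.mul_mul_mul_comm (b := pw (w.testBit 3) (y 3 4))
      (Commute.mul_right (Commute.mul_right
        (c 3 4 0 1 _ _ (by decide) (by decide)) (c 3 4 1 2 _ _ (by decide) (by decide)))
        (c 3 4 2 3 _ _ (by decide) (by decide))),
    Commute.mul_mul_mul_comm (b := pw (w.testBit 2) (y 2 3))
      (Commute.mul_right (c 2 3 0 1 _ _ (by decide) (by decide)) (c 2 3 1 2 _ _ (by decide) (by decide))),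
    Commute.mul_mul_mul_comm (b := pw (w.testBit 1) (y 1 2)) (c 1 2 0 1 _ _ (by decide) (by decide)),
    pw_mul _ _ (h.sq 0 1 (by decide)), pw_mul _ _ (h.sq 1 2 (by decide)),
    pw_mul _ _ (h.sq 2 3 (by decide)), pw_mul _ _ (h.sq 3 4 (by decide)),
    pw_mul _ _ (h.sq 0 4 (by decide))]
  simp only [Nat.testBit_xor]

theorem Ys.comm' (h : Ys y) (w w' : ℕ) : ph y w * ph y w' = ph y w' * ph y w := by
  rw [h.mul, h.mul, Nat.xor_comm]

theorem Ys.sq' (h : Ys y) (w : ℕ) : ph y w * ph y w = 1 := by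
  rw [h.mul, Nat.xor_self, ph_zero]

theorem Ys.inv' (h : Ys y) (w : ℕ) : (ph y w)⁻¹ = ph y w := inv_eq_of_mul_eq_one_left (h.sq' w)

/-- `y_ac` by the relation -/
theorem Ys.third (h : Ys y) {a b c d e : Fin 5} (hd : D5 a b c d e) :
    y a c = y a b * y b c * y d e := by
  obtain ⟨⟨h1, h2, h3, h4, h5, h6⟩, h7, h8, h9, h10⟩ := hd
  have e1 := h.rel a b c d e ⟨⟨h1, h2, h3, h4, h5, h6⟩, h7, h8, h9, h10⟩
  have s1 := h.sq a b h1
  have s2 := h.sq b c h4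
  have c1 := h.comm a b b c h1 h4
  rw [← e1]
  calc y a c = y a b * y a b * (y b c * y b c) * y a c := by rw [s1, s2]; simp
    _ = y a b * (y a b * y b c) * (y b c * y a c) := by simp only [mul_assoc]
    _ = y a b * (y b c * y a b) * (y b c * y a c) := by rw [c1]
    _ = y a b * y b c * (y a b * y b c * y a c) := by simp only [mul_assoc]

theorem Ys.yt (h : Ys y) {a b : Fin 5} (hab : a ≠ b) : ph y (Yt a b) = y a b := by
  have e02 : ph y 11 = y 0 2 := by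
    rw [h.third (a := 0) (b := 1) (c := 2) (d := 3) (e := 4) (by decide)]
    simp [ph, pw, Nat.testBit]
  have e13 : ph y 22 = y 1 3 := by
    rw [h.third (a := 1) (b := 2) (c := 3) (d := 0) (e := 4) (by decide)]
    simp [ph, pw, Nat.testBit]
  have e24 : ph y 13 = y 2 4 := by
    rw [h.third (a := 2) (b := 3) (c := 4) (d := 0) (e := 1) (by decide),
      mul_assoc, h.comm 3 4 0 1 (by decide) (by decide), ← mul_assoc,
      h.comm 2 3 0 1 (by decide) (by decide)]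
    simp [ph, pw, Nat.testBit]
  have e03 : ph y 26 = y 0 3 := by
    rw [h.third (a := 0) (b := 4) (c := 3) (d := 1) (e := 2) (by decide), h.sym 4 3,
      h.comm 0 4 3 4 (by decide) (by decide), mul_assoc,
      h.comm 0 4 1 2 (by decide) (by decide), ← mul_assoc,
      h.comm 3 4 1 2 (by decide) (by decide)]
    simp [ph, pw, Nat.testBit]
  have e14 : ph y 21 = y 1 4 := by
    rw [h.third (a := 1) (b := 0) (c := 4) (d := 2) (e := 3) (by decide), h.sym 1 0, mul_assoc,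
      h.comm 0 4 2 3 (by decide) (by decide), ← mul_assoc]
    simp [ph, pw, Nat.testBit]
  have e01 : ph y 1 = y 0 1 := by simp [ph, pw, Nat.testBit]
  have e12 : ph y 2 = y 1 2 := by simp [ph, pw, Nat.testBit]
  have e23 : ph y 4 = y 2 3 := by simp [ph, pw, Nat.testBit]
  have e34 : ph y 8 = y 3 4 := by simp [ph, pw, Nat.testBit]
  have e04 : ph y 16 = y 0 4 := by simp [ph, pw, Nat.testBit]
  fin_cases a <;> fin_cases b <;> first
    | exact absurd rfl hab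
    | exact e01
    | exact e02
    | exact e03
    | exact e04
    | exact e12
    | exact e13
    | exact e14
    | exact e23
    | exact e24
    | exact e34
    | exact e01.trans (h.sym _ _)
    | exact e02.trans (h.sym _ _)
    | exact e03.trans (h.sym _ _)
    | exact e04.trans (h.sym _ _)
    | exact e12.trans (h.sym _ _)
    | exact e13.trans (h.sym _ _)
    | exact e14.trans (h.sym _ _)
    | exact e23.trans (h.sym _ _)
    | exact e24.trans (h.sym _ _)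
    | exact e34.trans (h.sym _ _)

theorem pw_conj (x g : G) (b : Bool) : x * pw b g * x⁻¹ = pw b (x * g * x⁻¹) := by
  cases b <;> simp [pw]

theorem Ys.pwYt (h : Ys y) {a b : Fin 5} (hab : a ≠ b) (s : Bool) :
    pw s (y a b) = ph y (bif s then Yt a b else 0) := by
  cases s
  · simp [pw, ph_zero]
  · simp [pw, h.yt hab]

theorem Ys.conj (h : Ys y) {x : G} {σ : Perm (Fin 5)} (hx : Ov y x σ) (w : ℕ) :
    x * ph y w * x⁻¹ = ph y (ac σ w) := by
  have ne : ∀ {a b : Fin 5}, a ≠ b → σ a ≠ σ b := fun hab e => hab (σ.injective e)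
  have e1 : x * ph y w * x⁻¹ = pw (w.testBit 0) (y (σ 0) (σ 1)) * pw (w.testBit 1) (y (σ 1) (σ 2)) *
      pw (w.testBit 2) (y (σ 2) (σ 3)) * pw (w.testBit 3) (y (σ 3) (σ 4)) *
      pw (w.testBit 4) (y (σ 0) (σ 4)) := by
    rw [← hx 0 1 (by decide), ← hx 1 2 (by decide), ← hx 2 3 (by decide), ← hx 3 4 (by decide),
      ← hx 0 4 (by decide), ← pw_conj, ← pw_conj, ← pw_conj, ← pw_conj, ← pw_conj]
    unfold ph
    group
  rw [e1, h.pwYt (ne (by decide)), h.pwYt (ne (by decide)), h.pwYt (ne (by decide)),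
    h.pwYt (ne (by decide)), h.pwYt (ne (by decide)), h.mul, h.mul, h.mul, h.mul]
  rfl

/-- parity of a code -/
def par (w : ℕ) : Bool :=
  (w.testBit 0 ^^ w.testBit 1) ^^ (w.testBit 2 ^^ w.testBit 3) ^^ w.testBit 4

theorem even_cases : ∀ w < 32, w ≠ 0 → par w = false → ∃ a b c d, D4 a b c d ∧ w = Yt a b ^^^ Yt c d := by
  decide

theorem odd_cases : ∀ w < 32, par w = true → ∃ a b, a ≠ b ∧ w ^^^ ac (swap a b) w ≠ 0 ∧
    w ^^^ ac (swap a b) w < 32 ∧ par (w ^^^ ac (swap a b) w) = false := by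
  decide

/-- `ph y` is injective on the codes. -/
theorem Ys.eq_zero (h : Ys y) (mv : ∀ a b, a ≠ b → ∃ x, Ov y x (swap a b)) {w : ℕ} (hw : w < 32)
    (h1 : ph y w = 1) : w = 0 := by
  have ev : ∀ w < 32, par w = false → ph y w = 1 → w = 0 := by
    intro w hw hp h1
    by_contra hne
    obtain ⟨a, b, c, d, hd, rfl⟩ := even_cases w hw hne hp
    rw [← h.mul, h.yt hd.1, h.yt hd.2.2.2.2.2] at h1
    exact h.zne a b c d hd h1
  rcases Bool.eq_false_or_eq_true (par w) with hp | hp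
  · exfalso
    obtain ⟨a, b, hab, h2, h3, h4⟩ := odd_cases w hw hp
    obtain ⟨x, hx⟩ := mv a b hab
    refine h2 (ev _ h3 h4 ?_)
    rw [← h.mul, ← h.conj hx, h1]
    simp
  · exact ev w hw hp h1

theorem Ys.inj (h : Ys y) (mv : ∀ a b, a ≠ b → ∃ x, Ov y x (swap a b)) {w w' : ℕ} (hw : w < 32)
    (hw' : w' < 32) (e : ph y w = ph y w') : w = w' := by
  have h1 : ph y (w ^^^ w') = 1 := by rw [← h.mul, e, h.sq']
  have h2 : w ^^^ w' < 32 := Nat.xor_lt_two_pow (n := 5) hw hw'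
  exact Nat.xor_eq_zero_iff.1 (h.eq_zero mv h2 h1)

/-- The group `Δ`. -/
def Dl (y : Fin 5 → Fin 5 → G) : Subgroup G := closure {g | ∃ a b, a ≠ b ∧ g = y a b}

theorem y_mem {a b : Fin 5} (hab : a ≠ b) : y a b ∈ Dl y := subset_closure ⟨a, b, hab, rfl⟩

theorem Yt_lt : ∀ a b : Fin 5, Yt a b < 32 := by decide

theorem Ys.mem_iff (h : Ys y) {g : G} : g ∈ Dl y ↔ ∃ w < 32, ph y w = g := by
  constructor
  · intro hg
    induction hg using closure_induction with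
    | mem x hx =>
      obtain ⟨a, b, hab, rfl⟩ := hx
      exact ⟨_, Yt_lt a b, h.yt hab⟩
    | one => exact ⟨0, by norm_num, ph_zero⟩
    | mul x x' _ _ hx hx' =>
      obtain ⟨w, hw, rfl⟩ := hx
      obtain ⟨w', hw', rfl⟩ := hx'
      exact ⟨_, Nat.xor_lt_two_pow (n := 5) hw hw', (h.mul w w').symm⟩
    | inv x _ hx =>
      obtain ⟨w, hw, rfl⟩ := hx
      exact ⟨w, hw, (h.inv' w).symm⟩
  · rintro ⟨w, -, rfl⟩
    have key : ∀ a b (s : Bool), a ≠ b → pw s (y a b) ∈ Dl y := by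
      intro a b s hab
      cases s
      · exact one_mem _
      · exact y_mem hab
    exact mul_mem (mul_mem (mul_mem (mul_mem (key 0 1 _ (by decide)) (key 1 2 _ (by decide)))
      (key 2 3 _ (by decide))) (key 3 4 _ (by decide))) (key 0 4 _ (by decide))

theorem Ys.ph_mem (h : Ys y) {w : ℕ} (hw : w < 32) : ph y w ∈ Dl y := h.mem_iff.2 ⟨w, hw, rfl⟩

theorem Ys.dl_comm (h : Ys y) {g g' : G} (hg : g ∈ Dl y) (hg' : g' ∈ Dl y) : g * g' = g' * g := by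
  obtain ⟨w, -, rfl⟩ := h.mem_iff.1 hg
  obtain ⟨w', -, rfl⟩ := h.mem_iff.1 hg'
  exact h.comm' w w'

theorem Ys.dl_sq (h : Ys y) {g : G} (hg : g ∈ Dl y) : g * g = 1 := by
  obtain ⟨w, -, rfl⟩ := h.mem_iff.1 hg
  exact h.sq' w

theorem dl_conj {x g : G} {σ : Perm (Fin 5)} (hx : Ov y x σ) (hg : g ∈ Dl y) :
    x * g * x⁻¹ ∈ Dl y := by
  induction hg using closure_induction with
  | mem g hg =>
    obtain ⟨a, b, hab, rfl⟩ := hg
    rw [hx a b hab]
    exact y_mem (fun e => hab (σ.injective e))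
  | one => simp
  | mul g g' _ _ h1 h2 =>
    have e : x * (g * g') * x⁻¹ = (x * g * x⁻¹) * (x * g' * x⁻¹) := by group
    rw [e]
    exact mul_mem h1 h2
  | inv g _ h1 =>
    have e : x * g⁻¹ * x⁻¹ = (x * g * x⁻¹)⁻¹ := by group
    rw [e]
    exact inv_mem h1

end Cfsg.Agent.Omega.NOne.AG.FiveDl

end

-- merged: Cfsg.Agent.Omega.NOne.AG.FiveGrp
section

/-!
# THEOREM D0ag (#15001), section (5): the situation, `T₀ / Δ` as a module for `S₅`

`Five P T0 y Qs` : `T0 ⊴ P`, `Δ = ⟨y_ab⟩ ≤ Z(T0)`, `Qs (y_ab y_cd)` = `Q*_{ab|cd}`.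
`Five.ms` : the module data of `FiveMod` for `T0 / Δ`.  `Five.pair` : (5.3).
-/

set_option autoImplicit false
set_option linter.unusedSectionVars false

namespace Cfsg.Agent.Omega.NOne.AG.FiveGrp

open Equiv Subgroup
open Cfsg.Agent.Omega.NOne.AG.FiveMod Cfsg.Agent.Omega.NOne.AG.FiveDl

variable {G : Type*} [Group G]

/-- The situation of section (5). -/
structure Five (P T0 : Subgroup G) (y : Fin 5 → Fin 5 → G) (Qs : G → Subgroup G) : Prop where
  ys : Ys y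
  Dl_le : Dl y ≤ T0
  T0_le : T0 ≤ P
  T0_nor : ∀ x ∈ P, ∀ t ∈ T0, x * t * x⁻¹ ∈ T0
  T0_cent : ∀ t ∈ T0, ∀ a b, a ≠ b → t * y a b = y a b * t
  QP : ∀ a b c d, D4 a b c d → Qs (y a b * y c d) ≤ P
  cjQ : ∀ x ∈ P, ∀ a b c d, D4 a b c d → ∀ q ∈ Qs (y a b * y c d),
    x * q * x⁻¹ ∈ Qs (x * (y a b * y c d) * x⁻¹)
  over : ∀ a b c d, D4 a b c d → ∀ q ∈ Qs (y a b * y c d),
    Ov y q 1 ∨ Ov y q (swap a b) ∨ Ov y q (swap c d) ∨ Ov y q (swap a b * swap c d)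
  ex : ∀ a b c d, D4 a b c d → ∃ q ∈ Qs (y a b * y c d), Ov y q (swap a b)
  ker : ∀ a b c d, D4 a b c d → ∀ q ∈ Qs (y a b * y c d), Ov y q 1 → q ∈ T0
  comm : ∀ a b c d, D4 a b c d → ∀ q ∈ Qs (y a b * y c d), ∀ q' ∈ Qs (y a b * y c d),
    q * q' * q⁻¹ * q'⁻¹ = 1 ∨ q * q' * q⁻¹ * q'⁻¹ = y a b * y c d
  sq : ∀ a b c d, D4 a b c d → ∀ q ∈ Qs (y a b * y c d), q * q = 1 ∨ q * q = y a b * y c d
  gen : ∀ a b c d e, D5 a b c d e → ∀ t ∈ T0, ∃ u ∈ Qs (y a b * y c d), ∃ v ∈ Qs (y b c * y d e),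
    ∃ δ ∈ Dl y, u ∈ T0 ∧ v ∈ T0 ∧ t = u * v * δ
  dis : ∀ a b c d e, D5 a b c d e → ∀ u ∈ Qs (y a b * y c d), u ∈ T0 → ∀ v ∈ Qs (y b c * y d e), v ∈ T0 →
    u⁻¹ * v ∈ Dl y → u ∈ Dl y
  nd : ∀ a b c d, D4 a b c d → ∀ u ∈ Qs (y a b * y c d), u ∈ T0 →
    (∀ u' ∈ Qs (y a b * y c d), u' ∈ T0 → u * u' = u' * u) → u ∈ Dl y

namespace Five

variable {P T0 : Subgroup G} {y : Fin 5 → Fin 5 → G} {Qs : G → Subgroup G} (h : Five P T0 y Qs)
include h

theorem ov_T0 {t : G} (ht : t ∈ T0) : Ov y t 1 := fun a b hab => by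
  rw [h.T0_cent t ht a b hab, mul_inv_cancel_right]
  rfl

theorem comm_Dl {t δ : G} (ht : t ∈ T0) (hδ : δ ∈ Dl y) : t * δ = δ * t := by
  obtain ⟨w, -, rfl⟩ := h.ys.mem_iff.1 hδ
  have h1 := h.ys.conj (h.ov_T0 ht) w
  have h2 : ph y (ac 1 w) = ph y w := by
    have := h.ys.conj (Ov.one y) w
    simpa using this.symm
  rw [h2] at h1
  calc t * ph y w = t * ph y w * t⁻¹ * t := by group
    _ = ph y w * t := by rw [h1]

theorem zmem {a b c d : Fin 5} (hd : D4 a b c d) : y a b * y c d ∈ Dl y :=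
  mul_mem (y_mem hd.1) (y_mem hd.2.2.2.2.2)

theorem zcomm {a b c d : Fin 5} (hd : D4 a b c d) : y c d * y a b = y a b * y c d :=
  h.ys.comm _ _ _ _ hd.2.2.2.2.2 hd.1

omit h in
theorem zconj {x : G} {σ : Perm (Fin 5)} (hx : Ov y x σ) {a b c d : Fin 5} (hd : D4 a b c d) :
    x * (y a b * y c d) * x⁻¹ = y (σ a) (σ b) * y (σ c) (σ d) := by
  rw [← hx a b hd.1, ← hx c d hd.2.2.2.2.2]
  group

/-- conjugation moves `Q*_k` -/
theorem cj {x : G} (hx : x ∈ P) {σ : Perm (Fin 5)} (hσ : Ov y x σ) {a b c d : Fin 5} (hd : D4 a b c d)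
    {q : G} (hq : q ∈ Qs (y a b * y c d)) : x * q * x⁻¹ ∈ Qs (y (σ a) (σ b) * y (σ c) (σ d)) := by
  rw [← zconj hσ hd]
  exact h.cjQ x hx a b c d hd q hq

/-- `T₀` (more generally: everything in `P` over `1`) normalises `Q*_k` -/
theorem cj_one {x : G} (hx : x ∈ P) (hσ : Ov y x 1) {a b c d : Fin 5} (hd : D4 a b c d)
    {q : G} (hq : q ∈ Qs (y a b * y c d)) : x * q * x⁻¹ ∈ Qs (y a b * y c d) := h.cj hx hσ hd hq

theorem cj_T0 {t : G} (ht : t ∈ T0) {a b c d : Fin 5} (hd : D4 a b c d)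
    {q : G} (hq : q ∈ Qs (y a b * y c d)) : t * q * t⁻¹ ∈ Qs (y a b * y c d) :=
  h.cj_one (h.T0_le ht) (h.ov_T0 ht) hd hq

/-- `[T₀, Q*_k] ≤ Q*_k ∩ T₀` -/
theorem comm_mem {t : G} (ht : t ∈ T0) {a b c d : Fin 5} (hd : D4 a b c d)
    {q : G} (hq : q ∈ Qs (y a b * y c d)) :
    t * q * t⁻¹ * q⁻¹ ∈ Qs (y a b * y c d) ∧ t * q * t⁻¹ * q⁻¹ ∈ T0 := by
  refine ⟨mul_mem (h.cj_T0 ht hd hq) (inv_mem hq), ?_⟩
  have e : t * q * t⁻¹ * q⁻¹ = t * (q * t⁻¹ * q⁻¹) := by group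
  rw [e]
  exact mul_mem ht (h.T0_nor q (h.QP _ _ _ _ hd hq) _ (inv_mem ht))

/-- `[Q*_k, Q*_k] ≤ Δ` -/
theorem comm_Q {a b c d : Fin 5} (hd : D4 a b c d) {q q' : G} (hq : q ∈ Qs (y a b * y c d))
    (hq' : q' ∈ Qs (y a b * y c d)) : q * q' * q⁻¹ * q'⁻¹ ∈ Dl y := by
  rcases h.comm a b c d hd q hq q' hq' with e | e <;> rw [e]
  · exact one_mem _
  · exact h.zmem hd

theorem sq_Q {a b c d : Fin 5} (hd : D4 a b c d) {q : G} (hq : q ∈ Qs (y a b * y c d)) :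
    q * q ∈ Dl y := by
  rcases h.sq a b c d hd q hq with e | e <;> rw [e]
  · exact one_mem _
  · exact h.zmem hd

theorem mv (a b : Fin 5) (hab : a ≠ b) : ∃ x, Ov y x (swap a b) := by
  obtain ⟨c, d, hd⟩ : ∃ c d, D4 a b c d := by
    revert a b; decide
  obtain ⟨q, -, hq⟩ := h.ex a b c d hd
  exact ⟨q, hq⟩

theorem ph_inj {w w' : ℕ} (hw : w < 32) (hw' : w' < 32) (e : ph y w = ph y w') : w = w' :=
  h.ys.inj h.mv hw hw' e

/-! ### The quotient `T₀ / Δ` -/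

/-- `Δ` in `T₀`. -/
def KK (T0 : Subgroup G) (y : Fin 5 → Fin 5 → G) : Subgroup ↥T0 := (Dl y).subgroupOf T0

theorem KK_normal : (KK T0 y).Normal := by
  constructor
  rintro ⟨n, hn⟩ hn' ⟨g, hg⟩
  have h1 : n ∈ Dl y := hn'
  show g * n * g⁻¹ ∈ Dl y
  rw [h.comm_Dl hg h1, mul_inv_cancel_right]
  exact h1

/-- `[T₀, T₀] ≤ Δ` -/
theorem comm_T0 {s t : G} (hs : s ∈ T0) (ht : t ∈ T0) : s * t * s⁻¹ * t⁻¹ ∈ Dl y := by
  -- commutators of the generators
  have c1 : ∀ {a b c d e : Fin 5}, D5 a b c d e → ∀ u ∈ Qs (y a b * y c d), u ∈ T0 →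
      ∀ v ∈ Qs (y b c * y d e), v ∈ T0 → u * v * u⁻¹ * v⁻¹ ∈ Dl y := by
    intro a b c d e hd u hu hu0 v hv hv0
    have hd' : D4 b c d e := by
      obtain ⟨⟨h1, h2, h3, h4, h5, h6⟩, h7, h8, h9, h10⟩ := hd
      exact ⟨h4, h5, h8, h6, h9, h10⟩
    have m1 := h.comm_mem hu0 hd' hv
    have m2 : u * v * u⁻¹ * v⁻¹ ∈ Qs (y a b * y c d) := by
      have e : u * v * u⁻¹ * v⁻¹ = u * (v * u⁻¹ * v⁻¹) := by group
      rw [e]
      exact mul_mem hu (h.cj_T0 hv0 hd.1 (inv_mem hu))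
    exact h.dis a b c d e hd _ m2 m1.2 _ m1.1 m1.2 (by rw [inv_mul_cancel]; exact one_mem _)
  have hN := h.KK_normal
  -- work in the quotient
  have key : ∀ {x x' : G} (hx : x ∈ T0) (hx' : x' ∈ T0), x * x' * x⁻¹ * x'⁻¹ ∈ Dl y ↔
      ((⟨x, hx⟩ : T0) : T0 ⧸ KK T0 y) * ((⟨x', hx'⟩ : T0) : T0 ⧸ KK T0 y) =
        ((⟨x', hx'⟩ : T0) : T0 ⧸ KK T0 y) * ((⟨x, hx⟩ : T0) : T0 ⧸ KK T0 y) := by
    intro x x' hx hx'
    rw [← QuotientGroup.mk_mul, ← QuotientGroup.mk_mul, eq_comm, QuotientGroup.eq]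
    have e : ((⟨x', hx'⟩ : T0) * ⟨x, hx⟩)⁻¹ * (⟨x, hx⟩ * ⟨x', hx'⟩) =
        ⟨x⁻¹ * x'⁻¹ * x * x', by
          exact mul_mem (mul_mem (mul_mem (inv_mem hx) (inv_mem hx')) hx) hx'⟩ := by
      apply Subtype.ext
      show (x' * x)⁻¹ * (x * x') = _
      group
    rw [e]
    show _ ↔ x⁻¹ * x'⁻¹ * x * x' ∈ Dl y
    have e2 : x⁻¹ * x'⁻¹ * x * x' = (x' * x)⁻¹ * (x * x' * x⁻¹ * x'⁻¹) * (x' * x) := by group
    constructor
    · intro h1
      rw [e2, mul_assoc, ← h.comm_Dl (mul_mem hx' hx) h1, ← mul_assoc, inv_mul_cancel, one_mul]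
      exact h1
    · intro h1
      rw [e2] at h1
      have h2 := (h.KK_normal).conj_mem ⟨_, h.Dl_le h1⟩ (show _ ∈ Dl y from h1) ⟨x' * x, mul_mem hx' hx⟩
      have h3 : (x' * x) * ((x' * x)⁻¹ * (x * x' * x⁻¹ * x'⁻¹) * (x' * x)) * (x' * x)⁻¹ ∈ Dl y := h2
      have e3 : (x' * x) * ((x' * x)⁻¹ * (x * x' * x⁻¹ * x'⁻¹) * (x' * x)) * (x' * x)⁻¹ =
          x * x' * x⁻¹ * x'⁻¹ := by group
      rwa [e3] at h3
  obtain ⟨u, hu, v, hv, δ, hδ, hu0, hv0, rfl⟩ := h.gen 0 1 2 3 4 (by decide) s hs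
  obtain ⟨u', hu', v', hv', δ', hδ', hu0', hv0', rfl⟩ := h.gen 0 1 2 3 4 (by decide) t ht
  have hδ0 := h.Dl_le hδ
  have hδ0' := h.Dl_le hδ'
  rw [key (mul_mem (mul_mem hu0 hv0) hδ0) (mul_mem (mul_mem hu0' hv0') hδ0')]
  have q : ∀ {a b c : G} (ha : a ∈ T0) (hb : b ∈ T0) (hc : c ∈ Dl y),
      ((⟨a * b * c, mul_mem (mul_mem ha hb) (h.Dl_le hc)⟩ : T0) : T0 ⧸ KK T0 y) =
        ((⟨a, ha⟩ : T0) : T0 ⧸ KK T0 y) * ((⟨b, hb⟩ : T0) : T0 ⧸ KK T0 y) := by
    intro a b c ha hb hc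
    rw [← QuotientGroup.mk_mul, QuotientGroup.eq]
    show (a * b * c)⁻¹ * (a * b) ∈ Dl y
    have e : (a * b * c)⁻¹ * (a * b) = c⁻¹ := by group
    rw [e]
    exact inv_mem hc
  rw [q hu0 hv0 hδ, q hu0' hv0' hδ']
  have k1 := (key hu0 hu0').1 (h.comm_Q (by decide) hu hu')
  have k2 := (key hv0 hv0').1 (h.comm_Q (by decide) hv hv')
  have k3 := (key hu0 hv0').1 (c1 (by decide) u hu hu0 v' hv' hv0')
  have k4 := (key hu0' hv0).1 (c1 (by decide) u' hu' hu0' v hv hv0)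
  exact (Commute.mul_right (Commute.mul_left (show Commute _ _ from k1) (show Commute _ _ from k4.symm))
    (Commute.mul_left (show Commute _ _ from k3) (show Commute _ _ from k2))).eq

end Five

end Cfsg.Agent.Omega.NOne.AG.FiveGrp

end
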